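import Groth.Agent.Lib.Helper6.GalLat.Twist

set_option linter.unusedSectionVars false
set_option linter.unusedVariables false
set_option linter.unusedSimpArgs false
set_option autoImplicit false
set_option linter.style.haveILetI false
set_option maxHeartbeats 400000

noncomputable section

namespace Groth.Agent.Lib.Helper6.GalLat

attribute [-instance] AddCommGroup.toIntModule

variable {Γ : Type*} [Group Γ] {Γ' : Subgroup Γ} {V : Type*} [AddCommGroup V] [Module ℤ V]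
  (ρ : Representation ℤ Γ V) (c : Γ' → V)

/-- the linear extension of the twisting cocycle -/
def LL (g : Γ) : MonoidAlgebra ℤ (Γ ⧸ Γ') →ₗ[ℤ] V :=
  (MonoidAlgebra.basis (Γ ⧸ Γ') ℤ).constr ℕ (Φ ρ c g)

theorem LL_single (g : Γ) (x : Γ ⧸ Γ') :
    LL ρ c g (MonoidAlgebra.single x (1 : ℤ)) = Φ ρ c g x := by
  unfold LL
  rw [← MonoidAlgebra.basis_apply, Module.Basis.constr_basis]

theorem LL_one (hc : ∀ a b : Γ', c (a * b) = ρ a (c b) + c a) : LL ρ c (1 : Γ) = 0 := by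
  apply (MonoidAlgebra.basis (Γ ⧸ Γ') ℤ).ext
  intro x
  rw [MonoidAlgebra.basis_apply, LL_single, Φ_one ρ c hc]
  rfl

theorem LL_mul (hc : ∀ a b : Γ', c (a * b) = ρ a (c b) + c a) (g g' : Γ) :
    LL ρ c (g * g') = ρ g ∘ₗ LL ρ c g' +
      LL ρ c g ∘ₗ (Representation.ofMulAction ℤ Γ (Γ ⧸ Γ') g') := by
  apply (MonoidAlgebra.basis (Γ ⧸ Γ') ℤ).ext
  intro x
  rw [MonoidAlgebra.basis_apply, LL_single, Φ_mul ρ c hc]
  simp only [LinearMap.add_apply, LinearMap.coe_comp, Function.comp_apply,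
    Representation.ofMulAction_single, LL_single]

/-- the twisted representation on `V × ℤ[Γ/Γ']` -/
def ρE (hc : ∀ a b : Γ', c (a * b) = ρ a (c b) + c a) :
    Representation ℤ Γ (V × MonoidAlgebra ℤ (Γ ⧸ Γ')) where
  toFun g := ((ρ g) ∘ₗ (LinearMap.fst ℤ V _) + (LL ρ c g) ∘ₗ (LinearMap.snd ℤ V _)).prod
    ((Representation.ofMulAction ℤ Γ (Γ ⧸ Γ') g) ∘ₗ (LinearMap.snd ℤ V _))
  map_one' := by
    apply LinearMap.ext
    rintro ⟨v, ξ⟩
    simp [LL_one ρ c hc]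
  map_mul' g g' := by
    apply LinearMap.ext
    rintro ⟨v, ξ⟩
    apply Prod.ext
    · show ρ (g * g') v + LL ρ c (g * g') ξ =
        ρ g (ρ g' v + LL ρ c g' ξ) + LL ρ c g (Representation.ofMulAction ℤ Γ (Γ ⧸ Γ') g' ξ)
      rw [LL_mul ρ c hc, map_mul, map_add]
      simp only [Module.End.mul_apply, LinearMap.add_apply, LinearMap.coe_comp,
        Function.comp_apply]
      rw [add_assoc]
    · show Representation.ofMulAction ℤ Γ (Γ ⧸ Γ') (g * g') ξ =
        Representation.ofMulAction ℤ Γ (Γ ⧸ Γ') g (Representation.ofMulAction ℤ Γ (Γ ⧸ Γ') g' ξ)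
      rw [map_mul]
      rfl

theorem ρE_apply (hc : ∀ a b : Γ', c (a * b) = ρ a (c b) + c a)
    (g : Γ) (v : V) (ξ : MonoidAlgebra ℤ (Γ ⧸ Γ')) :
    ρE ρ c hc g (v, ξ) =
      (ρ g v + LL ρ c g ξ, Representation.ofMulAction ℤ Γ (Γ ⧸ Γ') g ξ) := rfl

end Groth.Agent.Lib.Helper6.GalLat
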