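import Groth.Agent.Lib.Helper6.GalLat.Forward
import Groth.Agent.Lib.Helper6.GalLat.TwistRep

set_option linter.unusedSectionVars false
set_option linter.unusedVariables false
set_option linter.unusedSimpArgs false
set_option autoImplicit false
set_option linter.style.haveILetI false
set_option maxHeartbeats 400000

noncomputable section

namespace Groth.Agent.Lib.Helper6.GalLat

open CategoryTheory

attribute [-instance] AddCommGroup.toIntModule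

theorem backward (Γ : Type) [Group Γ] [Finite Γ] (Λ : Rep.{0} ℤ Γ)
    (hii : ∀ (X : Type) [MulAction Γ X] [Finite X] (E : ShortComplex (Rep.{0} ℤ Γ)),
      E.ShortExact → Nonempty (E.X₁ ≅ Λ) → Nonempty (E.X₃ ≅ Rep.ofMulAction ℤ Γ X) →
        Nonempty E.Splitting)
    (Γ' : Subgroup Γ) : Limits.IsZero (groupCohomology (Rep.res Γ'.subtype Λ) 1) := by
  rw [isZero_H1_iff]
  intro c hc
  have hc' : ∀ a b : Γ', c (a * b) = Λ.ρ a (c b) + c a := hc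
  let ρe := ρE Λ.ρ c hc'
  let fE : Λ ⟶ Rep.of ρe := Rep.ofHom (ρ := Λ.ρ) (σ := ρe)
    ⟨LinearMap.inl ℤ Λ.V (MonoidAlgebra ℤ (Γ ⧸ Γ')), fun g => by
      apply LinearMap.ext
      intro v
      show ((Λ.ρ g v, 0) : Λ.V × MonoidAlgebra ℤ (Γ ⧸ Γ')) = ρE Λ.ρ c hc' g (v, 0)
      rw [ρE_apply]
      simp⟩
  let gE : Rep.of ρe ⟶ Rep.ofMulAction ℤ Γ (Γ ⧸ Γ') :=
    Rep.ofHom (ρ := ρe) (σ := Representation.ofMulAction ℤ Γ (Γ ⧸ Γ'))
    ⟨LinearMap.snd ℤ Λ.V (MonoidAlgebra ℤ (Γ ⧸ Γ')), fun g => by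
      apply LinearMap.ext
      rintro ⟨v, ξ⟩
      rfl⟩
  let E : ShortComplex (Rep.{0} ℤ Γ) := ShortComplex.mk fE gE (by
    apply Rep.hom_ext
    apply Representation.IntertwiningMap.ext
    apply LinearMap.ext
    intro v
    rfl)
  have hE : E.ShortExact := by
    rw [rep_shortExact_iff]
    refine ⟨?_, ?_, ?_⟩
    · intro v w hvw
      exact (Prod.ext_iff.1 hvw).1
    · intro ξ
      exact ⟨((0 : Λ.V), ξ), rfl⟩
    · rintro ⟨v, ξ⟩ hy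
      have hξ : ξ = 0 := hy
      subst hξ
      exact ⟨v, rfl⟩
  obtain ⟨sp⟩ := hii (Γ ⧸ Γ') E hE ⟨Iso.refl _⟩ ⟨Iso.refl _⟩
  let ξ₀ : MonoidAlgebra ℤ (Γ ⧸ Γ') := MonoidAlgebra.single (QuotientGroup.mk 1) (1 : ℤ)
  have hs2 : (sp.s.hom ξ₀).2 = ξ₀ := by
    have := congrArg (fun φ => φ.hom ξ₀) sp.s_g
    exact this
  refine ⟨-(sp.s.hom ξ₀).1, fun a => ?_⟩
  have hcomm := Rep.hom_comm_apply sp.s (a : Γ) ξ₀
  have hP : (Representation.ofMulAction ℤ Γ (Γ ⧸ Γ')) (a : Γ) ξ₀ = ξ₀ := by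
    show (Representation.ofMulAction ℤ Γ (Γ ⧸ Γ')) (a : Γ)
      (MonoidAlgebra.single (QuotientGroup.mk 1) (1 : ℤ)) = _
    rw [Representation.ofMulAction_single, smul_base Γ' a.2]
  have h1 : sp.s.hom ξ₀ = ρE Λ.ρ c hc' (a : Γ) (sp.s.hom ξ₀) := by
    have : sp.s.hom ((Representation.ofMulAction ℤ Γ (Γ ⧸ Γ')) (a : Γ) ξ₀) =
        ρE Λ.ρ c hc' (a : Γ) (sp.s.hom ξ₀) := hcomm
    rwa [hP] at this
  have h2 : (sp.s.hom ξ₀).1 = Λ.ρ (a : Γ) (sp.s.hom ξ₀).1 + c a := by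
    have h3 : sp.s.hom ξ₀ = ((sp.s.hom ξ₀).1, ξ₀) := Prod.ext rfl hs2
    have h4 := congrArg Prod.fst h1
    rw [h3, ρE_apply] at h4
    simp only at h4
    have h5 : LL Λ.ρ c (a : Γ) ξ₀ = c a := by
      show LL Λ.ρ c (a : Γ) (MonoidAlgebra.single (QuotientGroup.mk 1) (1 : ℤ)) = _
      rw [LL_single, Φ_base Λ.ρ c a.2]
    rw [h5] at h4
    exact h4
  show Λ.ρ (a : Γ) (-(sp.s.hom ξ₀).1) - -(sp.s.hom ξ₀).1 = c a
  rw [map_neg]
  have h6 : c a = (sp.s.hom ξ₀).1 - Λ.ρ (a : Γ) (sp.s.hom ξ₀).1 := by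
    rw [eq_sub_iff_add_eq, add_comm]
    exact h2.symm
  rw [h6]
  abel

end Groth.Agent.Lib.Helper6.GalLat
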