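import Mathlib

set_option linter.unusedSectionVars false
set_option linter.unusedVariables false
set_option linter.unusedSimpArgs false
set_option autoImplicit false
set_option linter.style.haveILetI false
set_option maxHeartbeats 400000

noncomputable section

namespace Groth.Agent.Lib.Helper6.GalLat

open CategoryTheory

variable {Γ : Type*} [Group Γ] {X : Type*} [MulAction Γ X]
  {V₁ V₂ W : Type*} [AddCommGroup V₁] [AddCommGroup V₂] [AddCommGroup W]
  [Module ℤ V₁] [Module ℤ V₂] [Module ℤ W]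
  (ρ₁ : Representation ℤ Γ V₁) (ρ₂ : Representation ℤ Γ V₂) (ρ₃ : Representation ℤ Γ W)
  (B : Module.Basis X ℤ W)
  (f : V₁ →ₗ[ℤ] V₂) (g : V₂ →ₗ[ℤ] W)

/-- Existence of a lift of a basis vector fixed by the stabiliser. -/
theorem exists_fixed_lift
    (hB : ∀ (γ : Γ) (x : X), ρ₃ γ (B x) = B (γ • x))
    (hf : Function.Injective f) (hg : Function.Surjective g) (hex : Function.Exact f g)
    (hfe : ∀ γ v, f (ρ₁ γ v) = ρ₂ γ (f v))
    (hge : ∀ γ v, g (ρ₂ γ v) = ρ₃ γ (g v))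
    (hH1 : ∀ (Γ' : Subgroup Γ) (c : Γ' → V₁),
      (∀ h h' : Γ', c (h * h') = ρ₁ h (c h') + c h) → ∃ v, ∀ h : Γ', ρ₁ h v - v = c h)
    (x : X) :
    ∃ e : V₂, g e = B x ∧ ∀ h ∈ MulAction.stabilizer Γ x, ρ₂ h e = e := by
  obtain ⟨e₀, he₀⟩ := hg (B x)
  have hker : ∀ h : MulAction.stabilizer Γ x, ∃ w : V₁, f w = ρ₂ h e₀ - e₀ := by
    intro h
    apply (hex _).1
    rw [map_sub, hge, he₀, hB]
    have : (h : Γ) • x = x := h.2
    rw [this, sub_self]
  choose c hc using hker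
  have hcoc : ∀ h h' : MulAction.stabilizer Γ x, c (h * h') = ρ₁ h (c h') + c h := by
    intro h h'
    apply hf
    rw [hc, map_add, hfe, hc, hc]
    simp only [Subgroup.coe_mul, map_mul, Module.End.mul_apply, map_sub]
    abel
  obtain ⟨v, hv⟩ := hH1 (MulAction.stabilizer Γ x) c hcoc
  refine ⟨e₀ - f v, ?_, ?_⟩
  · rw [map_sub, he₀, hex.apply_apply_eq_zero, sub_zero]
  · intro h hh
    have h1 := hc ⟨h, hh⟩
    have h2 := hv ⟨h, hh⟩
    simp only at h1 h2
    rw [map_sub, ← hfe]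
    have : f (ρ₁ h v) = f v + f (c ⟨h, hh⟩) := by
      rw [← map_add, ← h2]; congr 1; abel
    rw [this, h1]
    abel

/-- The equivariant section. -/
theorem exists_section
    (hB : ∀ (γ : Γ) (x : X), ρ₃ γ (B x) = B (γ • x))
    (hf : Function.Injective f) (hg : Function.Surjective g) (hex : Function.Exact f g)
    (hfe : ∀ γ v, f (ρ₁ γ v) = ρ₂ γ (f v))
    (hge : ∀ γ v, g (ρ₂ γ v) = ρ₃ γ (g v))
    (hH1 : ∀ (Γ' : Subgroup Γ) (c : Γ' → V₁),
      (∀ h h' : Γ', c (h * h') = ρ₁ h (c h') + c h) → ∃ v, ∀ h : Γ', ρ₁ h v - v = c h) :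
    ∃ s : W →ₗ[ℤ] V₂, (∀ ξ, g (s ξ) = ξ) ∧ ∀ γ ξ, s (ρ₃ γ ξ) = ρ₂ γ (s ξ) := by
  choose e he1 he2 using exists_fixed_lift ρ₁ ρ₂ ρ₃ B f g hB hf hg hex hfe hge hH1
  -- orbit representatives
  let rep : X → X := fun x => (Quotient.out (Quotient.mk (MulAction.orbitRel Γ X) x))
  have hrep : ∀ x, ∃ δ : Γ, δ • x = rep x := by
    intro x
    have : (MulAction.orbitRel Γ X) (rep x) x := Quotient.mk_out (s := MulAction.orbitRel Γ X) x
    rw [MulAction.orbitRel_apply] at this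
    exact this
  choose δ hδ using hrep
  have hrep_smul : ∀ (γ : Γ) (x : X), rep (γ • x) = rep x := by
    intro γ x
    have : Quotient.mk (MulAction.orbitRel Γ X) (γ • x) = Quotient.mk (MulAction.orbitRel Γ X) x := by
      apply Quotient.sound
      show (MulAction.orbitRel Γ X) (γ • x) x
      rw [MulAction.orbitRel_apply]
      exact MulAction.mem_orbit x γ
    show Quotient.out _ = Quotient.out _
    rw [this]
  let v : X → V₂ := fun x => ρ₂ (δ x)⁻¹ (e (rep x))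
  have hv_g : ∀ x, g (v x) = B x := by
    intro x
    show g (ρ₂ (δ x)⁻¹ (e (rep x))) = _
    rw [hge, he1, hB, ← hδ x, inv_smul_smul]
  have hv_eq : ∀ (γ : Γ) (x : X), v (γ • x) = ρ₂ γ (v x) := by
    intro γ x
    show ρ₂ (δ (γ • x))⁻¹ (e (rep (γ • x))) = ρ₂ γ (ρ₂ (δ x)⁻¹ (e (rep x)))
    rw [hrep_smul]
    have hstab : δ (γ • x) * γ * (δ x)⁻¹ ∈ MulAction.stabilizer Γ (rep x) := by
      rw [MulAction.mem_stabilizer_iff, mul_smul, mul_smul]
      have h1 : (δ x)⁻¹ • rep x = x := by rw [← hδ x, inv_smul_smul]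
      rw [h1, hδ (γ • x), hrep_smul]
    have h2 := he2 (rep x) _ hstab
    have h3 : ρ₂ (δ (γ • x))⁻¹ (e (rep x)) =
        ρ₂ (δ (γ • x))⁻¹ (ρ₂ (δ (γ • x) * γ * (δ x)⁻¹) (e (rep x))) := by rw [h2]
    rw [h3, ← Module.End.mul_apply, ← map_mul, ← Module.End.mul_apply, ← map_mul]
    congr 2
    group
  refine ⟨B.constr ℕ v, ?_, ?_⟩
  · intro ξ
    have : g ∘ₗ (B.constr ℕ v) = LinearMap.id := by
      apply B.ext
      intro x
      simp [hv_g]
    exact LinearMap.congr_fun this ξ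
  · intro γ ξ
    have : (B.constr ℕ v) ∘ₗ (ρ₃ γ) = (ρ₂ γ) ∘ₗ (B.constr ℕ v) := by
      apply B.ext
      intro x
      simp [hB, hv_eq]
    exact LinearMap.congr_fun this ξ

end Groth.Agent.Lib.Helper6.GalLat
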