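import Groth.Agent.Lib.Helper6.GalLat.H1
import Groth.Agent.Lib.Helper6.GalLat.Section

set_option linter.unusedSectionVars false
set_option linter.unusedVariables false
set_option linter.unusedSimpArgs false
set_option autoImplicit false
set_option linter.style.haveILetI false
set_option maxHeartbeats 400000

noncomputable section

namespace Groth.Agent.Lib.Helper6.GalLat

open CategoryTheory

universe w u v

section Exactness

variable {k : Type u} {G : Type v} [CommRing k] [Group G]

theorem rep_exact_iff (S : ShortComplex (Rep.{w} k G)) :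
    S.Exact ↔ ∀ y : S.X₂.V, S.g.hom y = 0 → ∃ x : S.X₁.V, S.f.hom x = y := by
  rw [← ShortComplex.exact_map_iff_of_faithful S (forget₂ (Rep.{w} k G) (ModuleCat.{w} k)),
    ShortComplex.moduleCat_exact_iff]
  rfl

theorem rep_shortExact_iff (S : ShortComplex (Rep.{w} k G)) :
    S.ShortExact ↔ Function.Injective S.f.hom ∧ Function.Surjective S.g.hom ∧
      ∀ y : S.X₂.V, S.g.hom y = 0 → ∃ x : S.X₁.V, S.f.hom x = y := by
  constructor
  · intro h
    exact ⟨(Rep.mono_iff_injective S.f).1 h.mono_f, (Rep.epi_iff_surjective S.g).1 h.epi_g,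
      (rep_exact_iff S).1 h.exact⟩
  · rintro ⟨h1, h2, h3⟩
    exact { exact := (rep_exact_iff S).2 h3
            mono_f := (Rep.mono_iff_injective S.f).2 h1
            epi_g := (Rep.epi_iff_surjective S.g).2 h2 }

end Exactness

attribute [-instance] AddCommGroup.toIntModule

theorem forward (Γ : Type) [Group Γ] (Λ : Rep.{0} ℤ Γ)
    (h : ∀ Γ' : Subgroup Γ, Limits.IsZero (groupCohomology (Rep.res Γ'.subtype Λ) 1))
    (X : Type) [MulAction Γ X] (E : ShortComplex (Rep.{0} ℤ Γ)) (hE : E.ShortExact)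
    (α : E.X₁ ≅ Λ) (β : E.X₃ ≅ Rep.ofMulAction ℤ Γ X) : Nonempty E.Splitting := by
  obtain ⟨hinj, hsurj, hex⟩ := (rep_shortExact_iff E).1 hE
  -- cocycles of subgroups in `E.X₁` are coboundaries
  have hH1 : ∀ (Γ' : Subgroup Γ) (c : Γ' → E.X₁.V),
      (∀ a b : Γ', c (a * b) = E.X₁.ρ a (c b) + c a) →
        ∃ v, ∀ a : Γ', E.X₁.ρ a v - v = c a := by
    intro Γ' c hc
    have h1 := (isZero_H1_iff (Rep.res Γ'.subtype Λ)).1 (h Γ')
      (fun a => α.hom.hom (c a)) (by
        intro a b
        rw [hc, map_add, Rep.hom_comm_apply]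
        rfl)
    obtain ⟨x, hx⟩ := h1
    refine ⟨α.inv.hom x, fun a => ?_⟩
    have h2 := hx a
    have h3 : α.inv.hom (α.hom.hom (c a)) = c a := Rep.inv_hom_apply _ _ α (c a)
    rw [← h3, ← h2, map_sub, ← Rep.hom_comm_apply]
    rfl
  let g' := β.hom.hom.toLinearMap ∘ₗ E.g.hom.toLinearMap
  have hg'surj : Function.Surjective g' := by
    intro y
    obtain ⟨z, hz⟩ := hsurj (β.inv.hom y)
    refine ⟨z, ?_⟩
    show β.hom.hom (E.g.hom z) = y
    rw [hz]
    exact Rep.hom_inv_apply _ _ β y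
  have hg'ex : Function.Exact E.f.hom.toLinearMap g' := by
    intro y
    constructor
    · intro hy
      have : E.g.hom y = 0 := by
        have h4 : β.inv.hom (β.hom.hom (E.g.hom y)) = E.g.hom y := Rep.inv_hom_apply _ _ β _
        rw [← h4]
        have : β.hom.hom (E.g.hom y) = 0 := hy
        rw [this, map_zero]
      obtain ⟨x, hx⟩ := hex y this
      exact ⟨x, hx⟩
    · rintro ⟨x, rfl⟩
      show β.hom.hom (E.g.hom (E.f.hom x)) = 0
      have : E.g.hom (E.f.hom x) = 0 := by
        have h5 := congrArg (fun φ => φ.hom x) E.zero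
        exact h5
      rw [this, map_zero]
  obtain ⟨s, hs1, hs2⟩ := exists_section E.X₁.ρ E.X₂.ρ (Representation.ofMulAction ℤ Γ X)
    (MonoidAlgebra.basis X ℤ) E.f.hom.toLinearMap g'
    (fun γ x => by rw [MonoidAlgebra.basis_apply, Representation.ofMulAction_single,
      MonoidAlgebra.basis_apply])
    hinj hg'surj hg'ex
    (fun γ v => Rep.hom_comm_apply E.f γ v)
    (fun γ v => by
      show β.hom.hom (E.g.hom (E.X₂.ρ γ v)) = _
      rw [Rep.hom_comm_apply, Rep.hom_comm_apply]
      rfl)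
    hH1
  let sM : Rep.ofMulAction ℤ Γ X ⟶ E.X₂ :=
    Rep.ofHom (ρ := Representation.ofMulAction ℤ Γ X) (σ := E.X₂.ρ)
      ⟨s, fun γ => LinearMap.ext fun ξ => hs2 γ ξ⟩
  have hsM : sM ≫ E.g ≫ β.hom = 𝟙 _ := by
    apply Rep.hom_ext
    apply Representation.IntertwiningMap.ext
    apply LinearMap.ext
    intro ξ
    exact hs1 ξ
  have hσ : (β.hom ≫ sM) ≫ E.g = 𝟙 E.X₃ := by
    rw [← cancel_mono β.hom, Category.assoc, Category.assoc, hsM, Category.comp_id,
      Category.id_comp]
  exact ⟨ShortComplex.Splitting.ofExactOfSection E hE.exact (β.hom ≫ sM) hσ hE.mono_f⟩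

end Groth.Agent.Lib.Helper6.GalLat
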