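import Mathlib

set_option linter.unusedSectionVars false
set_option linter.unusedVariables false
set_option linter.unusedSimpArgs false
set_option autoImplicit false
set_option linter.style.haveILetI false
set_option maxHeartbeats 400000

noncomputable section

namespace Groth.Agent.Lib.Helper6.GalLat

open CategoryTheory groupCohomology

universe u

variable {k G : Type u} [CommRing k] [Group G] (A : Rep k G)

theorem mem_coboundaries₁_iff' (f : G → A) :
    f ∈ coboundaries₁ A ↔ ∃ x : A, ∀ g, A.ρ g x - x = f g := by
  unfold coboundaries₁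
  rw [LinearMap.mem_range]
  constructor
  · rintro ⟨x, rfl⟩
    exact ⟨x, fun g => rfl⟩
  · rintro ⟨x, hx⟩
    exact ⟨x, funext fun g => hx g⟩

theorem isZero_H1_iff :
    Limits.IsZero (groupCohomology A 1) ↔
      ∀ f : G → A, (∀ g h, f (g * h) = A.ρ g (f h) + f g) → ∃ x : A, ∀ g, A.ρ g x - x = f g := by
  constructor
  · intro hz f hf
    have hmem : f ∈ cocycles₁ A := (mem_cocycles₁_iff f).2 hf
    have h0 : H1π A ⟨f, hmem⟩ = 0 := by
      haveI : Subsingleton (groupCohomology A 1) := ModuleCat.subsingleton_of_isZero hz
      exact Subsingleton.elim _ _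
    rw [H1π_eq_zero_iff] at h0
    exact (mem_coboundaries₁_iff' A f).1 h0
  · intro h
    rw [ModuleCat.isZero_iff_subsingleton]
    refine ⟨fun a b => ?_⟩
    have hz : ∀ z : H1 A, z = 0 := by
      intro z
      induction z using H1_induction_on with
      | h x =>
        rw [H1π_eq_zero_iff]
        exact (mem_coboundaries₁_iff' A x).2 (h x ((mem_cocycles₁_iff x).1 x.2))
    rw [hz a, hz b]

end Groth.Agent.Lib.Helper6.GalLat
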