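import Mathlib

set_option linter.unusedSectionVars false
set_option linter.unusedVariables false
set_option linter.unusedSimpArgs false
set_option autoImplicit false
set_option linter.style.haveILetI false
set_option maxHeartbeats 400000

noncomputable section

namespace Groth.Agent.Lib.Helper6.GalLat

open Classical

variable {Γ : Type*} [Group Γ] (Γ' : Subgroup Γ) {V : Type*} [AddCommGroup V] [Module ℤ V]
  (ρ : Representation ℤ Γ V) (c : Γ' → V)

/-- coset representatives with `σ [1] = 1` -/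
def σ (x : Γ ⧸ Γ') : Γ := if x = QuotientGroup.mk 1 then 1 else Quotient.out x

theorem mk_σ (x : Γ ⧸ Γ') : (QuotientGroup.mk (σ Γ' x) : Γ ⧸ Γ') = x := by
  unfold σ
  split_ifs with h
  · exact h.symm
  · exact QuotientGroup.out_eq' x

theorem σ_base : σ Γ' (QuotientGroup.mk 1 : Γ ⧸ Γ') = 1 := by
  unfold σ
  rw [if_pos rfl]

theorem smul_base {h : Γ} (hh : h ∈ Γ') :
    h • (QuotientGroup.mk 1 : Γ ⧸ Γ') = QuotientGroup.mk 1 := by
  rw [MulAction.Quotient.smul_mk, smul_eq_mul, mul_one, QuotientGroup.eq, mul_one]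
  exact Γ'.inv_mem hh

variable {Γ'}

/-- extension by zero of a function on the subgroup -/
def cext (g : Γ) : V := if hg : g ∈ Γ' then c ⟨g, hg⟩ else 0

theorem cext_mem {g : Γ} (hg : g ∈ Γ') : cext c g = c ⟨g, hg⟩ := by
  unfold cext
  rw [dif_pos hg]

variable (hc : ∀ a b : Γ', c (a * b) = ρ a (c b) + c a)

include hc in
theorem cext_mul {a b : Γ} (ha : a ∈ Γ') (hb : b ∈ Γ') :
    cext c (a * b) = ρ a (cext c b) + cext c a := by
  rw [cext_mem c (Γ'.mul_mem ha hb), cext_mem c ha, cext_mem c hb]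
  exact hc ⟨a, ha⟩ ⟨b, hb⟩

include hc in
theorem cext_one : cext c (1 : Γ) = 0 := by
  have h := cext_mul ρ c hc Γ'.one_mem Γ'.one_mem
  rw [mul_one, map_one, Module.End.one_apply] at h
  have : cext c (1 : Γ) + 0 = cext c 1 + cext c 1 := by rw [add_zero]; exact h
  exact (add_left_cancel this).symm

variable (Γ')

/-- the transition elements -/
def tt (g : Γ) (x : Γ ⧸ Γ') : Γ := (σ Γ' (g • x))⁻¹ * g * σ Γ' x

theorem tt_mem (g : Γ) (x : Γ ⧸ Γ') : tt Γ' g x ∈ Γ' := by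
  unfold tt
  have h1 : (QuotientGroup.mk (σ Γ' (g • x)) : Γ ⧸ Γ') = QuotientGroup.mk (g * σ Γ' x) := by
    rw [mk_σ]
    conv_lhs => rw [← mk_σ Γ' x]
    rfl
  rw [QuotientGroup.eq] at h1
  rwa [mul_assoc]

theorem tt_mul (g g' : Γ) (x : Γ ⧸ Γ') :
    tt Γ' (g * g') x = tt Γ' g (g' • x) * tt Γ' g' x := by
  unfold tt
  rw [mul_smul]
  group

variable {Γ'}

/-- the twisting cocycle -/
def Φ (g : Γ) (x : Γ ⧸ Γ') : V := ρ (σ Γ' (g • x)) (cext c (tt Γ' g x))

include hc in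
theorem Φ_mul (g g' : Γ) (x : Γ ⧸ Γ') :
    Φ ρ c (g * g') x = ρ g (Φ ρ c g' x) + Φ ρ c g (g' • x) := by
  unfold Φ
  rw [tt_mul, cext_mul ρ c hc (tt_mem Γ' g (g' • x)) (tt_mem Γ' g' x), map_add, mul_smul]
  congr 1
  rw [← Module.End.mul_apply, ← map_mul, ← Module.End.mul_apply, ← map_mul]
  congr 2
  unfold tt
  group

include hc in
theorem Φ_one (x : Γ ⧸ Γ') : Φ ρ c (1 : Γ) x = 0 := by
  unfold Φ
  have : tt Γ' (1 : Γ) x = 1 := by
    unfold tt
    rw [one_smul]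
    group
  rw [this, cext_one ρ c hc, map_zero]

theorem Φ_base {h : Γ} (hh : h ∈ Γ') :
    Φ ρ c h (QuotientGroup.mk 1 : Γ ⧸ Γ') = c ⟨h, hh⟩ := by
  unfold Φ
  have : tt Γ' h (QuotientGroup.mk 1 : Γ ⧸ Γ') = h := by
    unfold tt
    rw [smul_base Γ' hh, σ_base]
    group
  rw [this, smul_base Γ' hh, σ_base, map_one, Module.End.one_apply, cext_mem c hh]

end Groth.Agent.Lib.Helper6.GalLat
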